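import Groth.Agent.SymTenGenLib.Flat

/-!
# Symmetric tensors of a flat module form a flat module
-/

set_option autoImplicit false

universe u

open scoped TensorProduct
open PiTensorProduct

namespace Groth.Agent.SymTenGenLib

variable {R : Type u} [CommRing R] {M : Type u} [AddCommGroup M] [Module R M] {n : ℕ}

theorem flat_symTensor [Module.Flat R M] :
    Module.Flat R ↥(⨅ σ : Equiv.Perm (Fin n),
      LinearMap.eqLocus (reindex R (fun _ : Fin n => M) σ).toLinearMap LinearMap.id) := by
  classical
  refine Module.Flat.iff_forall_isTrivialRelation.2 fun {l} r x hrx => ?_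
  have hx : ∀ i (σ : Equiv.Perm (Fin n)), reindex R (fun _ => M) σ (x i).1 = (x i).1 := fun i σ =>
    (Submodule.mem_iInf _).1 (x i).2 σ
  choose k q s hs hst using fun i => exists_symmetric_lift (x i).1 (hx i)
  let F := (Σ i, Fin (k i)) →₀ R
  let j : ∀ i, (Fin (k i) →₀ R) →ₗ[R] F := fun i => Finsupp.lmapDomain R R (fun b => (⟨i, b⟩ : Σ i, Fin (k i)))
  let p₀ : F →ₗ[R] M := Finsupp.linearCombination R fun ib => q ib.1 (Finsupp.single ib.2 1)
  have hpj : ∀ i, p₀ ∘ₗ j i = q i := fun i => by
    refine Finsupp.lhom_ext fun b c => ?_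
    show p₀ (Finsupp.mapDomain (fun b => (⟨i, b⟩ : Σ i, Fin (k i))) (Finsupp.single b c)) = _
    rw [Finsupp.mapDomain_single]
    refine (Finsupp.linearCombination_single R _ _).trans ?_
    rw [← map_smul, Finsupp.smul_single, smul_eq_mul, mul_one]
  obtain ⟨m, u, q', hqu, hu⟩ := exists_vanish (n := n) p₀ {∑ i, r i • tmapL (j i) (s i)}
    (Set.finite_singleton _) (by
      rintro _ rfl
      rw [map_sum]
      have := congrArg (fun z : ↥(⨅ σ : Equiv.Perm (Fin n), LinearMap.eqLocus
        (reindex R (fun _ : Fin n => M) σ).toLinearMap LinearMap.id) => (z : ⨂[R] _ : Fin n, M)) hrx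
      simp only [AddSubmonoidClass.coe_finsetSum, Submodule.coe_smul, ZeroMemClass.coe_zero] at this
      rw [← this]
      refine Finset.sum_congr rfl fun i _ => ?_
      rw [map_smul, ← LinearMap.comp_apply, ← PiTensorProduct.map_comp, hpj]
      exact congrArg _ (hst i))
  let S : Fin l → ⨂[R] _ : Fin n, (Fin m →₀ R) := fun i => tmapL u (tmapL (j i) (s i))
  have hS : ∀ i (σ : Equiv.Perm (Fin n)), reindex R (fun _ => (Fin m →₀ R)) σ (S i) = S i := fun i σ => by
    rw [← PiTensorProduct.map_reindex (fun _ => u) σ, ← PiTensorProduct.map_reindex (fun _ => j i) σ, hs i σ]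
  have hrS : ∑ i, r i • S i = 0 := by
    have h := hu _ rfl
    rw [map_sum] at h
    rw [← h]
    exact Finset.sum_congr rfl fun i _ => (map_smul _ _ _).symm
  let b := Basis.piTensorProduct (R := R) (fun _ : Fin n => Finsupp.basisSingleOne (ι := Fin m) (R := R))
  have hrepr : ∀ (σ : Equiv.Perm (Fin n)) (z : ⨂[R] _ : Fin n, (Fin m →₀ R)) (g : Fin n → Fin m),
      b.repr (reindex R (fun _ => (Fin m →₀ R)) σ z) g = b.repr z (g ∘ σ) := by
    intro σ z g
    induction z using PiTensorProduct.induction_on with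
    | smul_tprod c y =>
      rw [map_smul, map_smul, map_smul, reindex_tprod, Finsupp.smul_apply, Finsupp.smul_apply,
        Basis.piTensorProduct_repr_tprod_apply, Basis.piTensorProduct_repr_tprod_apply]
      congr 1
      exact (Equiv.prod_comp σ _).symm.trans (by simp)
    | add x y hx hy => simp only [map_add, Finsupp.add_apply, hx, hy]
  let T : (Fin n → Fin m) → ⨂[R] _ : Fin n, M := fun g => tmapL q' (b g)
  let orbit : (Fin n → Fin m) → Finset (Fin n → Fin m) := fun g =>
    Finset.univ.image fun σ : Equiv.Perm (Fin n) => g ∘ σ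
  have horb : ∀ (g : Fin n → Fin m) (σ : Equiv.Perm (Fin n)), orbit (g ∘ σ) = orbit g := fun g σ => by
    ext h
    simp only [orbit, Finset.mem_image, Finset.mem_univ, true_and]
    exact ⟨fun ⟨τ, hτ⟩ => ⟨σ * τ, hτ⟩, fun ⟨τ, hτ⟩ => ⟨σ⁻¹ * τ, by
      rw [← hτ]; funext t; simp⟩⟩
  let O : Finset (Finset (Fin n → Fin m)) := Finset.univ.image orbit
  let e := O.equivFin.symm
  have hrep : ∀ o : O, ∃ g, orbit g = o.1 := fun o => by
    obtain ⟨g, -, hg⟩ := Finset.mem_image.1 o.2
    exact ⟨g, hg⟩
  choose rep hrep using hrep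
  let y : O → ↥(⨅ σ : Equiv.Perm (Fin n), LinearMap.eqLocus
      (reindex R (fun _ : Fin n => M) σ).toLinearMap LinearMap.id) := fun o =>
    ⟨∑ g ∈ Finset.univ.filter (fun g => orbit g = o.1), T g, (Submodule.mem_iInf _).2 fun σ => by
      show reindex R (fun _ => M) σ _ = _
      rw [map_sum]
      refine Finset.sum_nbij' (fun g => g ∘ σ.symm) (fun g => g ∘ σ) (fun g hg => ?_) (fun g hg => ?_)
        (fun g _ => by funext t; simp) (fun g _ => by funext t; simp) fun g _ => ?_
      · simpa [horb] using hg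
      · simpa [horb] using hg
      · simp only [T, b, Basis.piTensorProduct_apply, map_tprod, reindex_tprod, Function.comp_apply]⟩
  have hco : ∀ i g (o : O), orbit g = o.1 → b.repr (S i) g = b.repr (S i) (rep o) := fun i g o hg => by
    have : g ∈ orbit (rep o) := by
      rw [hrep o, ← hg]
      exact Finset.mem_image.2 ⟨1, Finset.mem_univ _, rfl⟩
    obtain ⟨σ, -, rfl⟩ := Finset.mem_image.1 this
    rw [← hrepr σ, hS i σ]
  refine ⟨O.card, fun i t => b.repr (S i) (rep (e t)), fun t => y (e t), fun i => Subtype.ext ?_, fun t => ?_⟩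
  · have : (x i).1 = ∑ g : Fin n → Fin m, b.repr (S i) g • T g := by
      have h : tmapL q' (S i) = (x i).1 := by
        rw [← LinearMap.comp_apply, ← PiTensorProduct.map_comp, hqu, ← LinearMap.comp_apply,
          ← PiTensorProduct.map_comp, hpj]
        exact hst i
      conv_lhs => rw [← h, ← b.sum_repr (S i), map_sum]
      exact Finset.sum_congr rfl fun g _ => map_smul _ _ _
    rw [this, ← Finset.sum_fiberwise_of_maps_to (t := O)
      (fun g _ => Finset.mem_image.2 ⟨g, Finset.mem_univ g, rfl⟩), ← Finset.sum_coe_sort O,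
      AddSubmonoidClass.coe_finsetSum, ← e.sum_comp]
    refine Finset.sum_congr rfl fun t _ => ?_
    rw [Submodule.coe_smul, Finset.smul_sum]
    exact Finset.sum_congr rfl fun g hg => by rw [hco i g (e t) (Finset.mem_filter.1 hg).2]
  · have := DFunLike.congr_fun (congrArg b.repr hrS) (rep (e t))
    simpa [map_sum] using this

end Groth.Agent.SymTenGenLib
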