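import Mathlib

/-!
# Tensor powers of flat modules: vanishing descends to finite free modules
-/

set_option autoImplicit false

universe u

open scoped TensorProduct
open PiTensorProduct

namespace Groth.Agent.SymTenGenLib

variable {R : Type u} [CommRing R] {A : Type u} [AddCommGroup A] [Module R A] {n : ℕ}

noncomputable local instance (priority := 2000) tpowGroup {M : Type u} [AddCommMonoid M] [Module R M] :
    AddCommGroup (⨂[R] _ : Fin n, M) := Module.addCommMonoidToAddCommGroup R

/-- The tensor power of a linear map. -/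
noncomputable abbrev tmapL {M N : Type u} [AddCommGroup M] [Module R M] [AddCommGroup N] [Module R N]
    (f : M →ₗ[R] N) : (⨂[R] _ : Fin n, M) →ₗ[R] ⨂[R] _ : Fin n, N :=
  PiTensorProduct.map fun _ => f

/-- The span of the pure tensors with an entry in the kernel. -/
noncomputable def kerSpan {F : Type u} [AddCommGroup F] [Module R F] (p : F →ₗ[R] A) :
    Submodule R (⨂[R] _ : Fin n, F) :=
  Submodule.span R {z | ∃ (y : Fin n → F) (i : Fin n), p (y i) = 0 ∧ z = tprod R y}

lemma mem_kerSpan_of_map_eq_zero {z : ⨂[R] _ : Fin n, (A →₀ R)}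
    (hz : tmapL (Finsupp.linearCombination R (id : A → A)) z = 0) :
    z ∈ kerSpan (n := n) (Finsupp.linearCombination R (id : A → A)) := by
  let p := Finsupp.linearCombination R (id : A → A)
  let K := kerSpan (n := n) p
  have hcong : ∀ (y : Fin n → (A →₀ R)) (i : Fin n) (u u' : A →₀ R), p u = p u' →
      K.mkQ (tprod R (Function.update y i u)) = K.mkQ (tprod R (Function.update y i u')) := by
    intro y i u u' h
    rw [Submodule.mkQ_apply, Submodule.mkQ_apply, Submodule.Quotient.eq, ← MultilinearMap.map_update_sub]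
    exact Submodule.subset_span ⟨_, i, by rw [Function.update_self, map_sub, h, sub_self], rfl⟩
  have hall : ∀ (s : Finset (Fin n)) (y y' : Fin n → (A →₀ R)), (∀ i ∉ s, y i = y' i) →
      (∀ i, p (y i) = p (y' i)) → K.mkQ (tprod R y) = K.mkQ (tprod R y') := by
    intro s
    induction s using Finset.induction_on with
    | empty => intro y y' h _; rw [funext fun i => h i (Finset.notMem_empty i)]
    | insert a s _ ih =>
      intro y y' h hp
      refine Eq.trans ?_ (ih (Function.update y a (y' a)) y' (fun i hi => ?_) fun i => ?_)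
      · have := hcong y a (y a) (y' a) (hp a)
        rwa [Function.update_eq_self] at this
      · by_cases hia : i = a
        · subst hia; rw [Function.update_self]
        · rw [Function.update_of_ne hia]; exact h i (by simp [hia, hi])
      · by_cases hia : i = a
        · subst hia; rw [Function.update_self]
        · rw [Function.update_of_ne hia]; exact hp i
  let sec : A → (A →₀ R) := fun a => Finsupp.single a 1
  have hsec : ∀ a, p (sec a) = a := fun a => by simp [p, sec]
  let Φ : MultilinearMap R (fun _ : Fin n => A) ((⨂[R] _ : Fin n, (A →₀ R)) ⧸ K) :=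
    { toFun := fun a => K.mkQ (tprod R (sec ∘ a))
      map_update_add' := by
        intro inst a i x y
        obtain rfl : inst = instDecidableEqFin n := Subsingleton.elim _ _
        rw [Function.comp_update, Function.comp_update, Function.comp_update,
          hcong _ i (sec (x + y)) (sec x + sec y) (by rw [map_add, hsec, hsec, hsec]),
          MultilinearMap.map_update_add, map_add]
      map_update_smul' := by
        intro inst a i c x
        obtain rfl : inst = instDecidableEqFin n := Subsingleton.elim _ _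
        rw [Function.comp_update, Function.comp_update,
          hcong _ i (sec (c • x)) (c • sec x) (by rw [map_smul, hsec, hsec]),
          MultilinearMap.map_update_smul, map_smul] }
  have hL : PiTensorProduct.lift Φ ∘ₗ tmapL p = K.mkQ := by
    ext y
    simp only [LinearMap.compMultilinearMap_apply, LinearMap.comp_apply, map_tprod, lift.tprod]
    exact hall Finset.univ _ _ (fun i hi => absurd (Finset.mem_univ i) hi) fun i => hsec _
  have := congrArg (fun L => L z) hL
  simp only [LinearMap.comp_apply, show tmapL p z = 0 from hz, map_zero] at this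
  exact (Submodule.Quotient.mk_eq_zero K).1 this.symm

/-- Vanishing in a tensor power of a flat module happens in a finite free module. -/
theorem exists_vanish [Module.Flat R A] {F : Type u} [AddCommGroup F] [Module R F]
    [Module.Free R F] [Module.Finite R F] (p₀ : F →ₗ[R] A) (S : Set (⨂[R] _ : Fin n, F))
    (hS : S.Finite) (hz : ∀ z ∈ S, tmapL p₀ z = 0) :
    ∃ (k : ℕ) (u : F →ₗ[R] (Fin k →₀ R)) (q : (Fin k →₀ R) →ₗ[R] A),
      q ∘ₗ u = p₀ ∧ ∀ z ∈ S, tmapL u z = 0 := by
  classical
  let p := Finsupp.linearCombination R (id : A → A)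
  let b := Module.Free.chooseBasis R F
  let j : F →ₗ[R] (A →₀ R) := b.constr R fun i => Finsupp.single (p₀ (b i)) 1
  have hj : p ∘ₗ j = p₀ := b.ext fun i => by simp [p, j]
  have hker : ∀ z ∈ S, ∃ T : Finset {y : Fin n → (A →₀ R) // ∃ i, p (y i) = 0},
      tmapL j z ∈ Submodule.span R ((fun y : {y : Fin n → (A →₀ R) // ∃ i, p (y i) = 0} => tprod R y.1) ''
        (↑T : Set {y : Fin n → (A →₀ R) // ∃ i, p (y i) = 0})) := by
    intro z hzS
    have hmem : tmapL j z ∈ kerSpan (n := n) p := mem_kerSpan_of_map_eq_zero (by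
      rw [← LinearMap.comp_apply, ← PiTensorProduct.map_comp, hj]
      exact hz z hzS)
    have e : {w : ⨂[R] _ : Fin n, (A →₀ R) | ∃ (y : Fin n → (A →₀ R)) (i : Fin n),
        p (y i) = 0 ∧ w = tprod R y} =
        (fun y => tprod R y.1) '' (Set.univ : Set {y : Fin n → (A →₀ R) // ∃ i, p (y i) = 0}) := by
      ext w
      constructor
      · rintro ⟨y, i, hi, rfl⟩; exact ⟨⟨y, i, hi⟩, trivial, rfl⟩
      · rintro ⟨⟨y, i, hi⟩, -, rfl⟩; exact ⟨y, i, hi, rfl⟩
    rw [kerSpan, e] at hmem
    obtain ⟨l, -, hl⟩ := (Finsupp.mem_span_image_iff_linearCombination R).1 hmem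
    refine ⟨l.support, ?_⟩
    rw [← hl]
    exact (Finsupp.mem_span_image_iff_linearCombination R).2
      ⟨l, (Finsupp.mem_supported R l).2 subset_rfl, rfl⟩
  choose! T hT using hker
  let T₀ := hS.toFinset.biUnion T
  let supp : Finset A := (Finset.univ.image fun i => p₀ (b i)) ∪
    T₀.biUnion fun y => Finset.univ.biUnion fun i => (y.1 i).support
  let incl : (supp →₀ R) →ₗ[R] (A →₀ R) := Finsupp.lmapDomain R R Subtype.val
  let r : (A →₀ R) →ₗ[R] (supp →₀ R) := Finsupp.lcomapDomain Subtype.val Subtype.val_injective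
  have hr : ∀ f : A →₀ R, f.support ⊆ supp → incl (r f) = f := fun f hf =>
    Finsupp.mapDomain_comapDomain _ Subtype.val_injective f (fun a ha => ⟨⟨a, hf ha⟩, rfl⟩)
  -- the finitely many entries lying in the kernel
  let I := {yi : T₀ × Fin n // p (yi.1.1.1 yi.2) = 0}
  let f : (I → R) →ₗ[R] (supp →₀ R) :=
    Fintype.linearCombination R fun yi : I => r (yi.1.1.1.1 yi.1.2)
  have hsub : ∀ y ∈ T₀, ∀ i, (y.1 i).support ⊆ supp := fun y hy i a ha =>
    Finset.mem_union_right _ (Finset.mem_biUnion.2 ⟨y, hy, Finset.mem_biUnion.2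
      ⟨i, Finset.mem_univ i, ha⟩⟩)
  have hxf : (p ∘ₗ incl) ∘ₗ f = 0 := by
    refine LinearMap.ext fun c => ?_
    simp only [LinearMap.comp_apply, f, Fintype.linearCombination_apply, map_sum, map_smul,
      LinearMap.zero_apply]
    refine Finset.sum_eq_zero fun yi _ => ?_
    rw [hr _ (hsub _ yi.1.1.2 _), yi.2, smul_zero]
  obtain ⟨k, a, q, hq, ha⟩ := Module.Flat.exists_factorization_of_comp_eq_zero_of_free hxf
  refine ⟨k, a ∘ₗ r ∘ₗ j, q, ?_, fun z hzS => ?_⟩
  · refine b.ext fun i => ?_
    have e1 : q (a (r (j (b i)))) = p (incl (r (j (b i)))) := (LinearMap.congr_fun hq _).symm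
    simp only [LinearMap.comp_apply, e1]
    rw [hr _ ?_]
    · exact LinearMap.congr_fun hj (b i)
    · refine (show (j (b i)).support ⊆ {p₀ (b i)} from ?_).trans ?_
      · simp only [j, Module.Basis.constr_basis]; exact Finsupp.support_single_subset
      · simp [supp]
  · rw [show tmapL (n := n) (a ∘ₗ r ∘ₗ j) = tmapL (a ∘ₗ r) ∘ₗ tmapL j from
      PiTensorProduct.map_comp (g := fun _ : Fin n => a ∘ₗ r) (f := fun _ => j), LinearMap.comp_apply]
    refine (Submodule.span_le.2 ?_ : _ ≤ LinearMap.ker (tmapL (a ∘ₗ r))) (hT z hzS)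
    rintro _ ⟨y, hy, rfl⟩
    obtain ⟨i, hi⟩ := y.2
    have hy0 : y ∈ T₀ := Finset.mem_biUnion.2 ⟨z, hS.mem_toFinset.2 hzS, hy⟩
    simp only [SetLike.mem_coe, LinearMap.mem_ker, map_tprod]
    refine MultilinearMap.map_coord_zero _ i ?_
    let yi : I := ⟨(⟨y, hy0⟩, i), hi⟩
    have h1 := LinearMap.congr_fun ha (Pi.single yi 1)
    simpa [f, yi] using h1

/-- Symmetric tensors of a flat module come from symmetric tensors of a finite free module. -/
theorem exists_symmetric_lift [Module.Flat R A] (t : ⨂[R] _ : Fin n, A)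
    (ht : ∀ σ : Equiv.Perm (Fin n), reindex R (fun _ => A) σ t = t) :
    ∃ (k : ℕ) (q : (Fin k →₀ R) →ₗ[R] A) (s : ⨂[R] _ : Fin n, (Fin k →₀ R)),
      (∀ σ : Equiv.Perm (Fin n), reindex R (fun _ => (Fin k →₀ R)) σ s = s) ∧ tmapL q s = t := by
  classical
  have hrep : ∃ (m : ℕ) (p₀ : (Fin m →₀ R) →ₗ[R] A) (s₀ : ⨂[R] _ : Fin n, (Fin m →₀ R)),
      tmapL p₀ s₀ = t := by
    clear ht
    induction t using PiTensorProduct.induction_on with
    | smul_tprod c y =>
      refine ⟨n, Finsupp.linearCombination R y, c • tprod R fun i => Finsupp.single i 1, ?_⟩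
      rw [map_smul, map_tprod]
      congr 2
      ext i
      simp
    | add x y hx hy =>
      obtain ⟨m, p, s, rfl⟩ := hx
      obtain ⟨m', p', s', rfl⟩ := hy
      let e : (Fin (m + m') →₀ R) ≃ₗ[R] (Fin m →₀ R) × (Fin m' →₀ R) :=
        (Finsupp.domLCongr finSumFinEquiv.symm) ≪≫ₗ Finsupp.sumFinsuppLEquivProdFinsupp R
      refine ⟨m + m', p.coprod p' ∘ₗ e.toLinearMap,
        tmapL (e.symm.toLinearMap ∘ₗ LinearMap.inl R _ _) s +
          tmapL (e.symm.toLinearMap ∘ₗ LinearMap.inr R _ _) s', ?_⟩
      rw [map_add]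
      congr 1 <;>
      · rw [← LinearMap.comp_apply, ← PiTensorProduct.map_comp]
        congr 2
        funext i
        apply LinearMap.ext
        intro v
        simp
  obtain ⟨m, p₀, s₀, rfl⟩ := hrep
  obtain ⟨k, u, q, hqu, hu⟩ := exists_vanish p₀
    (Set.range fun σ : Equiv.Perm (Fin n) => reindex R (fun _ => (Fin m →₀ R)) σ s₀ - s₀)
    (Set.finite_range _) (by
      rintro _ ⟨σ, rfl⟩
      rw [map_sub, sub_eq_zero]
      exact (PiTensorProduct.map_reindex (fun _ => p₀) σ s₀).trans (ht σ))
  refine ⟨k, q, tmapL u s₀, fun σ => ?_, ?_⟩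
  · rw [← PiTensorProduct.map_reindex (fun _ => u) σ s₀, ← sub_eq_zero, ← map_sub]
    exact hu _ ⟨σ, rfl⟩
  · rw [← LinearMap.comp_apply, ← PiTensorProduct.map_comp, hqu]

end Groth.Agent.SymTenGenLib

namespace Groth.Agent.SymTenGenLib

theorem exists_lift_surjective {R : Type u} [CommRing R] {M N : Type u} [AddCommGroup M] [Module R M]
    [AddCommGroup N] [Module R N] [Module.Flat R N] {n : ℕ} (f : M →ₗ[R] N) (hf : Function.Surjective f)
    (t : ⨂[R] _ : Fin n, N) (ht : ∀ σ : Equiv.Perm (Fin n), reindex R (fun _ => N) σ t = t) :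
    ∃ s : ⨂[R] _ : Fin n, M, (∀ σ : Equiv.Perm (Fin n), reindex R (fun _ => M) σ s = s) ∧
      PiTensorProduct.map (fun _ : Fin n => f) s = t := by
  obtain ⟨k, q, s, hs, hst⟩ := exists_symmetric_lift t ht
  obtain ⟨g, hg⟩ := Module.projective_lifting_property f q hf
  refine ⟨PiTensorProduct.map (fun _ : Fin n => g) s, fun σ => ?_, ?_⟩
  · rw [← PiTensorProduct.map_reindex (fun _ => g) σ s, hs σ]
  · rw [← LinearMap.comp_apply, ← PiTensorProduct.map_comp, hg]
    exact hst

end Groth.Agent.SymTenGenLib
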