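import Groth.Agent.SymTenGenLib.Flat
import Groth.Prelude.Def_SymTen

/-!
# Orbit sums are generated by elementary symmetric tensors
-/

set_option autoImplicit false

universe u

open scoped TensorProduct
open PiTensorProduct

namespace Groth.Agent.SymTenGenLib

variable (R : Type u) [CommRing R] (A : Type u) [CommRing A] [Algebra R A] (n : ℕ)

/-- The elementary symmetric tensor of `a`. -/
noncomputable def esym (a : A) (j : ℕ) : ⨂[R] _ : Fin n, A :=
  ∑ I ∈ (Finset.univ : Finset (Fin n)).powersetCard j,
    tprod R (fun i : Fin n => if i ∈ I then a else (1 : A))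

/-- The algebra they generate. -/
noncomputable def genAlg : Subalgebra R (⨂[R] _ : Fin n, A) :=
  Algebra.adjoin R {t | ∃ (a : A) (j : ℕ), t = esym R A n a j}

variable {R A n}

lemma esym_mem_TS (a : A) (j : ℕ) : esym R A n a j ∈ SymTen.TS R A n := by
  intro σ
  rw [esym, map_sum]
  refine Finset.sum_nbij' (fun I => I.map σ.toEmbedding) (fun I => I.map σ.symm.toEmbedding)
    (fun I hI => ?_) (fun I hI => ?_) (fun I _ => ?_) (fun I _ => ?_) fun I _ => ?_
  · simpa [Finset.mem_powersetCard] using hI
  · simpa [Finset.mem_powersetCard] using hI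
  · ext; simp
  · ext; simp
  · rw [reindex_tprod]
    congr 1
    funext i
    simp [Finset.mem_map_equiv]

section

variable {L : Type u}

/-- The orbit of a labelling. -/
noncomputable def orb [DecidableEq L] (f : Fin n → L) : Finset (Fin n → L) :=
  Finset.univ.image fun σ : Equiv.Perm (Fin n) => f ∘ σ

/-- A sum of pure tensors. -/
noncomputable def psum (v : L → A) (T : Finset (Fin n → L)) : ⨂[R] _ : Fin n, A :=
  ∑ f ∈ T, tprod R (v ∘ f)

/-- The number of labels different from the unit label. -/
noncomputable def wt [DecidableEq L] (o : L) (f : Fin n → L) : ℕ :=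
  (Finset.univ.filter fun i => f i ≠ o).card

variable [DecidableEq L]

lemma mem_orb {f g : Fin n → L} : g ∈ orb f ↔ ∃ σ : Equiv.Perm (Fin n), f ∘ σ = g := by
  simp [orb]

lemma self_mem_orb (f : Fin n → L) : f ∈ orb f := mem_orb.2 ⟨1, rfl⟩

lemma wt_comp (o : L) (f : Fin n → L) (σ : Equiv.Perm (Fin n)) : wt o (f ∘ σ) = wt o f := by
  refine Finset.card_nbij' σ σ.symm (fun i hi => ?_) (fun i hi => ?_) (fun i _ => by simp) (fun i _ => by simp)
  · simpa using hi
  · simpa using hi

lemma sum_invariant_mem (o : L) (v : L → A) (w : ℕ)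
    (h : ∀ f : Fin n → L, wt o f ≤ w → psum v (orb f) ∈ genAlg R A n)
    (T : Finset (Fin n → L)) (hT : ∀ f ∈ T, ∀ σ : Equiv.Perm (Fin n), f ∘ σ ∈ T)
    (hw : ∀ f ∈ T, wt o f ≤ w) : psum v T ∈ genAlg R A n := by
  induction T using Finset.strongInduction with
  | H T ih =>
    by_cases h0 : T = ∅
    · subst h0; simp [psum]
    obtain ⟨f, hf⟩ := Finset.nonempty_iff_ne_empty.2 h0
    have hsub : orb f ⊆ T := fun g hg => by
      obtain ⟨σ, rfl⟩ := mem_orb.1 hg
      exact hT f hf σ
    rw [show psum v T = psum v (T \ orb f) + psum v (orb f) from (Finset.sum_sdiff hsub).symm]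
    refine Subalgebra.add_mem _ (ih _ (Finset.sdiff_ssubset hsub ⟨f, self_mem_orb f⟩) ?_ ?_) (h f (hw f hf))
    · intro g hg σ
      rw [Finset.mem_sdiff] at hg ⊢
      refine ⟨hT g hg.1 σ, fun hgo => hg.2 ?_⟩
      obtain ⟨τ, hτ⟩ := mem_orb.1 hgo
      refine mem_orb.2 ⟨τ * σ⁻¹, funext fun i => ?_⟩
      have := congrFun hτ (σ.symm i)
      simpa using this
    · exact fun g hg => hw g (Finset.mem_sdiff.1 hg).1

lemma mem_orb_of_card {f g : Fin n → L}
    (h : ∀ x, (Finset.univ.filter fun i => g i = x).card = (Finset.univ.filter fun i => f i = x).card) :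
    g ∈ orb f := by
  have e : ∀ x, {i // g i = x} ≃ {i // f i = x} := fun x =>
    Fintype.equivOfCardEq (by rw [Fintype.card_subtype, Fintype.card_subtype]; exact h x)
  exact mem_orb.2 ⟨Equiv.ofFiberEquiv e, funext fun i => Equiv.ofFiberEquiv_map e i⟩

end

theorem psum_orb_mem (w : ℕ) : ∀ {L : Type u} [DecidableEq L] (o : L) (v : L → A), v o = 1 →
    ∀ f : Fin n → L, wt o f ≤ w → psum v (orb f) ∈ genAlg R A n := by
  classical
  induction w using Nat.strong_induction_on with
  | _ w ih =>
  intro L _ o v hv f hf
  by_cases h0 : ∀ i, f i = o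
  · have hf0 : f = fun _ => o := funext h0
    have : orb f = {f} := by
      ext g
      rw [mem_orb, Finset.mem_singleton]
      subst hf0
      exact ⟨fun ⟨σ, h⟩ => h.symm.trans rfl, fun h => ⟨1, h.symm⟩⟩
    rw [this, psum, Finset.sum_singleton, show v ∘ f = 1 from funext fun i => by simp [h0 i, hv]]
    rw [show (tprod R (1 : Fin n → A)) = 1 from rfl]
    exact Subalgebra.one_mem _
  simp only [not_forall] at h0
  obtain ⟨i₀, hi₀⟩ := h0
  let l := f i₀
  let k := (Finset.univ.filter fun i => f i = l).card
  let f' : Fin n → L := fun i => if f i = l then o else f i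
  have hsplit : ∀ g : Fin n → L, g ∈ orb f' → (∀ i, g i ≠ l) ∧
      wt o g + k = wt o f := by
    intro g hg
    obtain ⟨σ, rfl⟩ := mem_orb.1 hg
    refine ⟨fun i => ?_, ?_⟩
    · simp only [Function.comp_apply, f']
      split_ifs with h
      · exact fun e => hi₀ e.symm
      · exact h
    · rw [wt_comp, wt, wt]
      have : (Finset.univ.filter fun i => f i ≠ o) =
          (Finset.univ.filter fun i => f' i ≠ o) ∪ (Finset.univ.filter fun i => f i = l) := by
        ext i
        simp only [Finset.mem_union, Finset.mem_filter, Finset.mem_univ, true_and, f']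
        by_cases h : f i = l
        · simp only [h, if_true, or_true, iff_true]; exact hi₀
        · simp [h]
      rw [this, Finset.card_union_of_disjoint]
      rw [Finset.disjoint_left]
      intro i hi hi'
      simp only [Finset.mem_filter, Finset.mem_univ, true_and, f'] at hi hi'
      simp [hi'] at hi
  have hk : 0 < k := Finset.card_pos.2 ⟨i₀, by simp [l]⟩
  -- pairs of labels
  let L' := ULift.{u} Bool × L
  let o' : L' := (⟨false⟩, o)
  let v' : L' → A := fun x => (if x.1.down then v l else 1) * v x.2
  have hv' : v' o' = 1 := by simp [v', o', hv]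
  let h : Finset (Fin n) × (Fin n → L) → (Fin n → L') := fun Ig i => (⟨decide (i ∈ Ig.1)⟩, Ig.2 i)
  let T : Finset (Fin n → L') := ((Finset.univ.powersetCard k) ×ˢ orb f').image h
  have hinj : Set.InjOn h (((Finset.univ : Finset (Fin n)).powersetCard k ×ˢ orb f' : Finset _) : Set (Finset (Fin n) × (Fin n → L))) := by
    rintro ⟨I, g⟩ _ ⟨I', g'⟩ _ e
    have e1 : ∀ i, decide (i ∈ I) = decide (i ∈ I') ∧ g i = g' i := fun i =>
      ⟨congrArg (fun z : L' => z.1.down) (congrFun e i), congrArg Prod.snd (congrFun e i)⟩
    refine Prod.ext ?_ (funext fun i => (e1 i).2)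
    ext i
    simpa using (e1 i).1
  have hprod : esym R A n (v l) k * psum v (orb f') = psum v' T := by
    rw [esym, psum, Finset.sum_mul_sum, ← Finset.sum_product', psum, Finset.sum_image hinj]
    refine Finset.sum_congr rfl fun Ig _ => ?_
    rw [tprod_mul_tprod]
    congr 1
    funext i
    simp [v', h]
  have hTinv : ∀ φ ∈ T, ∀ σ : Equiv.Perm (Fin n), φ ∘ σ ∈ T := by
    intro φ hφ σ
    simp only [T, Finset.mem_image, Finset.mem_product, Finset.mem_powersetCard] at hφ ⊢
    obtain ⟨⟨I, g⟩, ⟨⟨-, hI⟩, hg⟩, rfl⟩ := hφ
    refine ⟨⟨I.map σ.symm.toEmbedding, g ∘ σ⟩, ⟨⟨Finset.subset_univ _, by simpa using hI⟩, ?_⟩, ?_⟩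
    · obtain ⟨τ, rfl⟩ := mem_orb.1 hg
      exact mem_orb.2 ⟨τ * σ, rfl⟩
    · funext i
      simp [h, Finset.mem_map_equiv]
  have hTle : ∀ φ ∈ T, wt o' φ ≤ wt o f := by
    intro φ hφ
    simp only [T, Finset.mem_image, Finset.mem_product, Finset.mem_powersetCard] at hφ
    obtain ⟨⟨I, g⟩, ⟨⟨-, hI'⟩, hg⟩, rfl⟩ := hφ
    have hI : I.card = k := hI'
    have : (Finset.univ.filter fun i => h (I, g) i ≠ o') ⊆ I ∪ (Finset.univ.filter fun i => g i ≠ o) := by
      intro i hi
      simp only [Finset.mem_filter, Finset.mem_univ, true_and, h, o'] at hi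
      by_contra hc
      simp only [Finset.mem_union, Finset.mem_filter, Finset.mem_univ, true_and, not_or, not_not] at hc
      exact hi (by simp [hc.1, hc.2])
    refine (Finset.card_le_card this).trans ((Finset.card_union_le _ _).trans ?_)
    have := (hsplit g hg).2
    simp only [wt] at this ⊢
    omega
  let Tfull := T.filter fun φ => wt o' φ = wt o f
  let Tlow := T.filter fun φ => ¬ wt o' φ = wt o f
  let e : (Fin n → L) → (Fin n → L') := fun g i => if g i = l then (⟨true⟩, o) else (⟨false⟩, g i)
  have he : Function.Injective e := fun g g' hg => funext fun i => by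
    have := congrFun hg i
    simp only [e] at this
    split_ifs at this with h1 h2 h2
    · rw [h1, h2]
    · exact absurd (congrArg (fun z : L' => z.1.down) this) Bool.true_eq_false.mp
    · exact absurd (congrArg (fun z : L' => z.1.down) this) Bool.false_eq_true.mp
    · simpa using congrArg Prod.snd this
  have hfull : Tfull = (orb f).image e := by
    ext φ
    simp only [Tfull, T, Finset.mem_filter, Finset.mem_image, Finset.mem_product,
      Finset.mem_powersetCard]
    constructor
    · rintro ⟨⟨⟨I, g⟩, ⟨⟨-, hI'⟩, hg⟩, rfl⟩, hwt⟩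
      have hI : I.card = k := hI'
      obtain ⟨hgl, hgw⟩ := hsplit g hg
      have hdisj : ∀ i ∈ I, g i = o := by
        by_contra hc
        simp only [not_forall] at hc
        obtain ⟨i, hi, hgi⟩ := hc
        have hlt : (I ∪ (Finset.univ.filter fun i => g i ≠ o)).card <
            I.card + (Finset.univ.filter fun i => g i ≠ o).card := by
          have := Finset.card_union_add_card_inter I (Finset.univ.filter fun i => g i ≠ o)
          have : 0 < (I ∩ (Finset.univ.filter fun i => g i ≠ o)).card :=
            Finset.card_pos.2 ⟨i, by simp [hi, hgi]⟩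
          omega
        have hsub : (Finset.univ.filter fun i => h (I, g) i ≠ o') ⊆
            I ∪ (Finset.univ.filter fun i => g i ≠ o) := by
          intro j hj
          simp only [Finset.mem_filter, Finset.mem_univ, true_and, h, o'] at hj
          by_contra hc
          simp only [Finset.mem_union, Finset.mem_filter, Finset.mem_univ, true_and, not_or,
            not_not] at hc
          exact hj (by simp [hc.1, hc.2])
        have := Finset.card_le_card hsub
        simp only [wt] at hwt hgw
        omega
      refine ⟨fun i => if i ∈ I then l else g i, mem_orb_of_card fun x => ?_, funext fun i => ?_⟩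
      · obtain ⟨τ, hτ⟩ := mem_orb.1 hg
        have hc : ∀ y, (Finset.univ.filter fun i => g i = y).card =
            (Finset.univ.filter fun i => f' i = y).card := fun y => by
          subst hτ
          refine Finset.card_nbij' τ τ.symm (fun i hi => ?_) (fun i hi => ?_) (fun i _ => by simp) (fun i _ => by simp)
          · simpa using hi
          · simpa using hi
        by_cases hxl : x = l
        · subst hxl
          rw [show (Finset.univ.filter fun i => (if i ∈ I then l else g i) = l) = I from ?_]
          · exact hI
          · ext i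
            by_cases hi : i ∈ I <;> simp [hi, hgl i]
        · by_cases hxo : x = o
          · rw [hxo]
            have e1 : (Finset.univ.filter fun i => (if i ∈ I then l else g i) = o) =
                (Finset.univ.filter fun i => g i = o) \ I := by
              ext i
              by_cases hi : i ∈ I <;> simp [hi]
              exact fun hh => hi₀ hh
            have e2 : (Finset.univ.filter fun i => f' i = o) =
                (Finset.univ.filter fun i => f i = o) ∪ (Finset.univ.filter fun i => f i = l) := by
              ext i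
              by_cases hi : f i = l <;> simp [f', hi]
            have e3 : (Finset.univ.filter fun i => f' i = o).card =
                (Finset.univ.filter fun i => f i = o).card + k := by
              rw [e2, Finset.card_union_of_disjoint]
              rw [Finset.disjoint_left]
              intro i hi hi'
              simp only [Finset.mem_filter, Finset.mem_univ, true_and] at hi hi'
              exact hi₀ (hi'.symm.trans hi)
            rw [e1, Finset.card_sdiff_of_subset (fun i hi => by simp [hdisj i hi]), hc o, e3, hI,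
              Nat.add_sub_cancel]
          · have e1 : (Finset.univ.filter fun i => (if i ∈ I then l else g i) = x) =
                (Finset.univ.filter fun i => g i = x) := by
              ext i
              by_cases hi : i ∈ I <;> simp [hi, Ne.symm hxl]
              rw [hdisj i hi]
              exact Ne.symm hxo
            rw [e1, hc x]
            congr 1
            ext i
            by_cases hi : f i = l <;> simp [f', hi, Ne.symm hxl, Ne.symm hxo]
      · by_cases hi : i ∈ I
        · simp [e, h, hi, hdisj i hi]
        · simp [e, h, hi, hgl i]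
    · rintro ⟨g, hg, rfl⟩
      obtain ⟨σ, rfl⟩ := mem_orb.1 hg
      refine ⟨⟨(Finset.univ.filter fun i => f (σ i) = l, f' ∘ σ), ⟨⟨Finset.subset_univ _, ?_⟩,
        mem_orb.2 ⟨σ, rfl⟩⟩, funext fun i => ?_⟩, ?_⟩
      · refine Finset.card_nbij' σ σ.symm (fun i hi => ?_) (fun i hi => ?_) (fun i _ => by simp) (fun i _ => by simp)
        · simpa using hi
        · simpa using hi
      · by_cases hi : f (σ i) = l <;> simp [h, e, f', hi]
      · rw [← wt_comp o f σ, wt, wt]
        congr 1
        ext i
        have hb : (⟨true⟩ : ULift.{u} Bool) ≠ ⟨false⟩ := fun h => by simpa using congrArg ULift.down h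
        by_cases hi : f (σ i) = l
        · simp [e, o', hi, show ¬ l = o from hi₀]
          exact fun h => hb (congrArg Prod.fst h)
        · simp [e, o', hi]
          exact not_congr ⟨fun h => congrArg Prod.snd h, fun h => by rw [h]⟩
  have hkey : psum v (orb f) = esym R A n (v l) k * psum v (orb f') - psum v' Tlow := by
    rw [hprod, eq_sub_iff_add_eq,
      show psum (R := R) v' T = psum v' Tfull + psum v' Tlow from
        (Finset.sum_filter_add_sum_filter_not T _ _).symm, hfull, psum, psum, psum,
      Finset.sum_image he.injOn]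
    congr 1
    refine Finset.sum_congr rfl fun g _ => ?_
    congr 1
    funext i
    by_cases hi : g i = l <;> simp [e, v', hi, hv]
  have hfw : wt o f' + k = wt o f := (hsplit f' (self_mem_orb f')).2
  have hpos : 0 < wt o f := by omega
  rw [hkey]
  refine Subalgebra.sub_mem _ (Subalgebra.mul_mem _ (Algebra.subset_adjoin ⟨_, _, rfl⟩)
    (ih (w - 1) (by omega) o v hv f' (by omega))) ?_
  refine sum_invariant_mem o' v' (w - 1) (fun φ hφ => ih (w - 1) (by omega) o' v' hv' φ hφ) Tlow
    (fun φ hφ σ => ?_) (fun φ hφ => ?_)
  · rw [Finset.mem_filter] at hφ ⊢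
    exact ⟨hTinv φ hφ.1 σ, by rw [wt_comp]; exact hφ.2⟩
  · rw [Finset.mem_filter] at hφ
    have := hTle φ hφ.1
    omega

theorem TS_eq [Module.Flat R A] : SymTen.TS R A n = genAlg R A n := by
  classical
  refine le_antisymm (fun t ht => ?_) (Algebra.adjoin_le ?_)
  · obtain ⟨k, q, s, hs, rfl⟩ := exists_symmetric_lift t ht
    let b := Basis.piTensorProduct (R := R) (fun _ : Fin n => Finsupp.basisSingleOne (ι := Fin k) (R := R))
    have hrepr : ∀ (σ : Equiv.Perm (Fin n)) (x : ⨂[R] _ : Fin n, (Fin k →₀ R)) (g : Fin n → Fin k),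
        b.repr (reindex R (fun _ => (Fin k →₀ R)) σ x) g = b.repr x (g ∘ σ) := by
      intro σ x g
      induction x using PiTensorProduct.induction_on with
      | smul_tprod c y =>
        rw [map_smul, map_smul, map_smul, reindex_tprod, Finsupp.smul_apply, Finsupp.smul_apply,
          Basis.piTensorProduct_repr_tprod_apply, Basis.piTensorProduct_repr_tprod_apply]
        congr 1
        exact (Equiv.prod_comp σ _).symm.trans (by simp)
      | add x y hx hy => simp only [map_add, Finsupp.add_apply, hx, hy]
    let v : Option (ULift.{u} (Fin k)) → A := fun o => o.elim 1 fun i => q (Finsupp.single i.down 1)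
    let e : (Fin n → Fin k) → (Fin n → Option (ULift.{u} (Fin k))) := fun g i => some ⟨g i⟩
    have hsum : tmapL q s = ∑ g : Fin n → Fin k, b.repr s g • tprod R (v ∘ e g) := by
      conv_lhs => rw [← b.sum_repr s]
      rw [map_sum]
      refine Finset.sum_congr rfl fun g _ => ?_
      rw [map_smul]
      congr 1
      rw [Basis.piTensorProduct_apply, map_tprod]
      congr 1
    rw [hsum]
    suffices ∀ T : Finset (Fin n → Fin k), (∀ g ∈ T, ∀ σ : Equiv.Perm (Fin n), g ∘ σ ∈ T) →
        ∑ g ∈ T, b.repr s g • tprod R (v ∘ e g) ∈ genAlg R A n from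
      this Finset.univ fun _ _ _ => Finset.mem_univ _
    intro T hT
    induction T using Finset.strongInduction with
    | H T ih =>
      by_cases h0 : T = ∅
      · subst h0; simp
      obtain ⟨f, hf⟩ := Finset.nonempty_iff_ne_empty.2 h0
      let O : Finset (Fin n → Fin k) := Finset.univ.image fun σ : Equiv.Perm (Fin n) => f ∘ σ
      have hsub : O ⊆ T := fun g hg => by
        obtain ⟨σ, -, rfl⟩ := Finset.mem_image.1 hg
        exact hT f hf σ
      rw [← Finset.sum_sdiff hsub]
      refine Subalgebra.add_mem _ (ih _ (Finset.sdiff_ssubset hsub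
        ⟨f, Finset.mem_image.2 ⟨1, Finset.mem_univ _, rfl⟩⟩) fun g hg σ => ?_) ?_
      · rw [Finset.mem_sdiff] at hg ⊢
        refine ⟨hT g hg.1 σ, fun hgo => hg.2 ?_⟩
        obtain ⟨τ, -, hτ⟩ := Finset.mem_image.1 hgo
        refine Finset.mem_image.2 ⟨τ * σ⁻¹, Finset.mem_univ _, funext fun i => ?_⟩
        simpa using congrFun hτ (σ.symm i)
      · have hconst : ∀ g ∈ O, b.repr s g = b.repr s f := fun g hg => by
          obtain ⟨σ, -, rfl⟩ := Finset.mem_image.1 hg
          rw [← hrepr σ s f, hs σ]
        rw [Finset.sum_congr rfl fun g hg => by rw [hconst g hg], ← Finset.smul_sum]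
        refine Subalgebra.smul_mem _ ?_ _
        have hO : O.image e = orb (e f) := by
          ext φ
          simp only [O, Finset.mem_image, Finset.mem_univ, true_and, mem_orb]
          constructor
          · rintro ⟨_, ⟨σ, rfl⟩, rfl⟩; exact ⟨σ, rfl⟩
          · rintro ⟨σ, rfl⟩; exact ⟨_, ⟨σ, rfl⟩, rfl⟩
        have he : Function.Injective e := fun g g' h => funext fun i => by
          simpa [e] using congrFun h i
        have := psum_orb_mem (R := R) n (none : Option (ULift.{u} (Fin k))) v rfl (e f)
          ((Finset.card_filter_le _ _).trans (by simp))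
        rwa [← hO, psum, Finset.sum_image he.injOn] at this
  · rintro _ ⟨a, j, rfl⟩
    exact esym_mem_TS a j

end Groth.Agent.SymTenGenLib
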